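import Groth.Prelude.Def_HopfRep
import Groth.Agent.Lib.CoQuot20.Main
import Mathlib.RingTheory.HopfAlgebra.Basic
import Mathlib.RingTheory.HopfAlgebra.Convolution
import Mathlib.LinearAlgebra.Matrix.NonsingularInverse
import Mathlib.Algebra.Module.Projective
import Mathlib.LinearAlgebra.Basis.Basic

/-!
# Linearity of affine flat groups with the equivariant resolution property
-/

set_option autoImplicit false
set_option linter.style.haveILetI false

universe u

open TensorProduct HopfRep Coalgebra HopfAlgebra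

noncomputable section

namespace Groth.Agent.LinGrp3

variable {R : Type u} [CommRing R] {A : Type u} [CommRing A] [HopfAlgebra R A]

/-- A free comodule of finite rank containing a finitely generated one as a quotient of a retract. -/
theorem exists_matrix (E : Type u) [AddCommGroup E] [Module R E] [Comod R A E]
    [Module.Finite R E] [Module.Projective R E] (π : E →ₗ[R] A)
    (hπ : CoalgebraStruct.comul ∘ₗ π = π.rTensor A ∘ₗ Comod.coact (k := R) (A := A) (V := E)) :
    ∃ (d : ℕ) (a : Matrix (Fin d) (Fin d) A),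
      (∀ i j, CoalgebraStruct.comul (R := R) (a i j) = ∑ l, a i l ⊗ₜ[R] a l j) ∧
      (∀ i j, CoalgebraStruct.counit (R := R) (a i j) = if i = j then 1 else 0) ∧
      (↑(LinearMap.range π) : Set A) ⊆ Submodule.span R (Set.range fun p : Fin d × Fin d => a p.1 p.2) := by
  classical
  obtain ⟨d, f, g, hf, -, hfg⟩ := Module.Finite.exists_comp_eq_id_of_projective R E
  -- a comodule structure on the free module
  let ρ : (Fin d → R) →ₗ[R] (Fin d → R) ⊗[R] A :=
    g.rTensor A ∘ₗ Comod.coact (k := R) (A := A) ∘ₗ f + (TensorProduct.mk R _ A).flip 1 ∘ₗ (LinearMap.id - g ∘ₗ f)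
  have hfge : ∀ e, f (g e) = e := fun e => LinearMap.congr_fun hfg e
  have hρg : ∀ e, ρ (g e) = g.rTensor A (Comod.coact (k := R) (A := A) e) := fun e => by
    simp [ρ, hfge]
  have hρ0 : ∀ x, f x = 0 → ρ x = x ⊗ₜ 1 := fun x hx => by simp [ρ, hx]
  let π' : (Fin d → R) →ₗ[R] A := π ∘ₗ f
  have hco : (TensorProduct.assoc R (Fin d → R) A A).toLinearMap ∘ₗ ρ.rTensor A ∘ₗ ρ =
      (CoalgebraStruct.comul (R := R) (A := A)).lTensor (Fin d → R) ∘ₗ ρ := by
    refine LinearMap.ext fun x => ?_
    rw [show x = g (f x) + (x - g (f x)) by abel, map_add, map_add]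
    congr 1
    · simp only [LinearMap.comp_apply, LinearEquiv.coe_coe]
      rw [hρg]
      have h1 : ρ.rTensor A ∘ₗ g.rTensor A = (g.rTensor A).rTensor A ∘ₗ (Comod.coact (k := R) (A := A)).rTensor A := by
        rw [← LinearMap.rTensor_comp, ← LinearMap.rTensor_comp]
        exact congrArg _ (LinearMap.ext hρg)
      rw [← LinearMap.comp_apply (ρ.rTensor A), h1, LinearMap.comp_apply]
      have h2 := LinearMap.congr_fun (Comod.coassoc (k := R) (A := A) (V := E)) (f x)
      simp only [LinearMap.comp_apply, LinearEquiv.coe_coe] at h2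
      have h3 := LinearMap.congr_fun (CoQuot20.assoc_nat (C := A) g)
        ((Comod.coact (k := R) (A := A)).rTensor A (Comod.coact (k := R) (A := A) (f x)))
      simp only [LinearMap.comp_apply, LinearEquiv.coe_coe] at h3
      rw [← h3, h2, ← LinearMap.comp_apply, LinearMap.rTensor_comp_lTensor, ← LinearMap.lTensor_comp_rTensor,
        LinearMap.comp_apply]
    · have h0 : f (x - g (f x)) = 0 := by rw [map_sub, hfge, sub_self]
      simp only [LinearMap.comp_apply, LinearEquiv.coe_coe]
      rw [hρ0 _ h0, LinearMap.rTensor_tmul, hρ0 _ h0, TensorProduct.assoc_tmul, LinearMap.lTensor_tmul,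
        Bialgebra.comul_one, Algebra.TensorProduct.one_def]
  have hcu : (CoalgebraStruct.counit (R := R) (A := A)).lTensor (Fin d → R) ∘ₗ ρ =
      (TensorProduct.mk R (Fin d → R) R).flip 1 := by
    refine LinearMap.ext fun x => ?_
    rw [show x = g (f x) + (x - g (f x)) by abel, map_add, map_add]
    congr 1
    · rw [LinearMap.comp_apply, hρg, ← LinearMap.comp_apply, LinearMap.lTensor_comp_rTensor,
        ← LinearMap.rTensor_comp_lTensor, LinearMap.comp_apply]
      have h2 := LinearMap.congr_fun (Comod.counit_comp (k := R) (A := A) (V := E)) (f x)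
      rw [LinearMap.comp_apply] at h2
      rw [h2]
      simp
    · have h0 : f (x - g (f x)) = 0 := by rw [map_sub, hfge, sub_self]
      rw [LinearMap.comp_apply, hρ0 _ h0, LinearMap.lTensor_tmul, Bialgebra.counit_one]
      rfl
  have hπ' : ∀ x, CoalgebraStruct.comul (R := R) (π' x) = π'.rTensor A (ρ x) + π' (0 : Fin d → R) ⊗ₜ 1 := fun x => by
    rw [map_zero, TensorProduct.zero_tmul, add_zero]
    show CoalgebraStruct.comul (R := R) (π (f x)) = π'.rTensor A (ρ x)
    rw [← LinearMap.comp_apply, hπ, LinearMap.comp_apply]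
    conv_rhs => rw [show x = g (f x) + (x - g (f x)) by abel]
    have h0 : f (x - g (f x)) = 0 := by rw [map_sub, hfge, sub_self]
    rw [map_add, map_add, hρg, hρ0 _ h0, LinearMap.rTensor_tmul, ← LinearMap.rTensor_comp_apply]
    show _ = (π' ∘ₗ g).rTensor A _ + π (f _) ⊗ₜ 1
    rw [h0, map_zero, TensorProduct.zero_tmul, add_zero, show π' ∘ₗ g = π from by rw [LinearMap.comp_assoc, hfg, LinearMap.comp_id]]
  -- the matrix
  let e : Fin d → (Fin d → R) := fun j => Pi.single j 1
  let Φ : Fin d → (Fin d → R) ⊗[R] A →ₗ[R] A := fun i =>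
    (TensorProduct.lid R A).toLinearMap ∘ₗ (LinearMap.proj i).rTensor A
  have hexp : ∀ v : (Fin d → R) ⊗[R] A, v = ∑ i, e i ⊗ₜ[R] Φ i v := by
    intro v
    induction v using TensorProduct.induction_on with
    | zero => simp
    | add x y hx hy => simp only [map_add, TensorProduct.tmul_add, Finset.sum_add_distrib, ← hx, ← hy]
    | tmul x a =>
      conv_lhs => rw [pi_eq_sum_univ' x, TensorProduct.sum_tmul]
      exact Finset.sum_congr rfl fun i _ => by
        simp [Φ, e, TensorProduct.smul_tmul]
  let a : Matrix (Fin d) (Fin d) A := fun i j => Φ i (ρ (e j))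
  have hρe : ∀ j, ρ (e j) = ∑ i, e i ⊗ₜ[R] a i j := fun j => hexp _
  refine ⟨d, a, fun i j => ?_, fun i j => ?_, ?_⟩
  · have h := LinearMap.congr_fun hco (e j)
    simp only [LinearMap.comp_apply, LinearEquiv.coe_coe, hρe, map_sum, LinearMap.rTensor_tmul,
      LinearMap.lTensor_tmul, TensorProduct.sum_tmul, TensorProduct.assoc_tmul] at h
    have h' := congrArg ((TensorProduct.lid R (A ⊗[R] A)).toLinearMap ∘ₗ (LinearMap.proj i).rTensor (A ⊗[R] A)) h
    simp only [LinearMap.comp_apply, map_sum, LinearMap.rTensor_tmul, LinearEquiv.coe_coe, TensorProduct.lid_tmul,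
      LinearMap.proj_apply] at h'
    have hs : ∀ l, e l i = if i = l then (1 : R) else 0 := fun l => by simp [e, Pi.single_apply]
    simp only [hs, ite_smul, one_smul, zero_smul, Finset.sum_ite_eq, Finset.mem_univ, if_true] at h'
    exact h'.symm
  · have h := LinearMap.congr_fun hcu (e j)
    simp only [LinearMap.comp_apply, hρe, map_sum, LinearMap.lTensor_tmul] at h
    have h' := congrArg ((TensorProduct.lid R R).toLinearMap ∘ₗ (LinearMap.proj i).rTensor R) h
    have hs : ∀ l, e l i = if i = l then (1 : R) else 0 := fun l => by simp [e, Pi.single_apply]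
    simp [hs, Finset.sum_ite_eq] at h'
    exact h'
  · rintro _ ⟨z, rfl⟩
    have hz : π z = π' (g z) := by simp [π', hfge]
    rw [hz, SetLike.mem_coe, pi_eq_sum_univ' (g z), map_sum]
    refine Submodule.sum_mem _ fun j _ => ?_
    rw [map_smul]
    refine Submodule.smul_mem _ _ ?_
    -- recover an element from its coproduct by the counit
    have h := hπ' (e j)
    rw [map_zero, TensorProduct.zero_tmul, add_zero, hρe, map_sum] at h
    have h' := congrArg (fun w => TensorProduct.lid R A ((CoalgebraStruct.counit (R := R)).rTensor A w)) h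
    simp only [Coalgebra.rTensor_counit_comul, map_sum, LinearMap.rTensor_tmul, TensorProduct.lid_tmul, one_smul] at h'
    show π' (e j) ∈ _
    rw [h']
    exact Submodule.sum_mem _ fun i _ => Submodule.smul_mem _ _ (Submodule.subset_span ⟨(i, j), rfl⟩)

/-- An affine flat group scheme of finite type with the resolution property is linear. -/
theorem linear_of_resolution [IsNoetherianRing R] [Module.Flat R A] [Algebra.FiniteType R A]
    (hRE : ∀ (F : Type u) [AddCommGroup F] [Module R F] [HopfRep.Comod R A F] [Module.Finite R F],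
      ∃ (E : Type u) (_ : AddCommGroup E) (_ : Module R E) (_ : HopfRep.Comod R A E) (π : E →ₗ[R] F),
        Module.Finite R E ∧ Module.Projective R E ∧ Function.Surjective π ∧
        HopfRep.Comod.coact (k := R) (A := A) ∘ₗ π = π.rTensor A ∘ₗ HopfRep.Comod.coact (k := R) (A := A) (V := E)) :
    ∃ (d : ℕ) (a : Matrix (Fin d) (Fin d) A),
      (∀ i j, CoalgebraStruct.comul (R := R) (a i j) = ∑ l, a i l ⊗ₜ[R] a l j) ∧
      (∀ i j, CoalgebraStruct.counit (R := R) (a i j) = if i = j then 1 else 0) ∧
      ∃ u : A, u * a.det = 1 ∧ Algebra.adjoin R (Set.range (fun p : Fin d × Fin d => a p.1 p.2) ∪ {u}) = ⊤ := by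
  classical
  obtain ⟨s, hs⟩ := Algebra.FiniteType.out (R := R) (A := A)
  obtain ⟨N, hNfg, hN, hsN, -⟩ :=
    CoQuot20.exists_fg_subcomod_le (R := R) (C := A) (V := A) ⊤ (fun w _ => ⟨(Submodule.topEquiv.symm.toLinearMap.rTensor A)
      (Comod.coact (k := R) (A := A) w), by
        rw [← LinearMap.comp_apply, ← LinearMap.rTensor_comp,
          show (⊤ : Submodule R A).subtype ∘ₗ Submodule.topEquiv.symm.toLinearMap = LinearMap.id from rfl,
          LinearMap.rTensor_id, LinearMap.id_apply]⟩) s (Set.subset_univ _)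
  obtain ⟨ρN, hρN, hρN'⟩ := CoQuot20.exists_restrict N hN
  letI : Comod R A N := { coact := ρN, coassoc := hρN.1, counit_comp := hρN.2 }
  haveI : Module.Finite R N := Module.Finite.iff_fg.2 hNfg
  obtain ⟨E, _, _, _, π, hEf, hEp, hsurj, hπ⟩ := hRE N
  obtain ⟨d, a, hΔ, hε, hspan⟩ := exists_matrix E (N.subtype ∘ₗ π) (by
    rw [← LinearMap.comp_assoc]
    show (Comod.coact (k := R) (A := A) (V := A) ∘ₗ N.subtype) ∘ₗ π = _
    rw [← hρN', LinearMap.comp_assoc]
    show N.subtype.rTensor A ∘ₗ (Comod.coact (k := R) (A := A) (V := N) ∘ₗ π) = _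
    rw [hπ, ← LinearMap.comp_assoc, ← LinearMap.rTensor_comp])
  -- the matrix is invertible by the antipode
  let b : Matrix (Fin d) (Fin d) A := fun i j => antipode R (a i j)
  have hba : b * a = 1 := by
    refine Matrix.ext fun i j => ?_
    have h := LinearMap.congr_fun (HopfAlgebra.mul_antipode_rTensor_comul (R := R) (A := A)) (a i j)
    simp only [LinearMap.comp_apply] at h
    rw [hΔ, map_sum, map_sum, hε] at h
    simp only [LinearMap.rTensor_tmul, LinearMap.mul'_apply, Algebra.linearMap_apply] at h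
    rw [Matrix.mul_apply, h, Matrix.one_apply]
    split <;> simp
  refine ⟨d, a, hΔ, hε, b.det, by rw [← Matrix.det_mul, hba, Matrix.det_one], ?_⟩
  rw [eq_top_iff, ← hs]
  refine Algebra.adjoin_le fun x hx => ?_
  have h1 : x ∈ (↑(LinearMap.range (N.subtype ∘ₗ π)) : Set A) := by
    obtain ⟨z, hz⟩ := hsurj ⟨x, hsN hx⟩
    exact ⟨z, congrArg Subtype.val hz⟩
  exact (Submodule.span_le (p := Subalgebra.toSubmodule (Algebra.adjoin R
    (Set.range (fun p : Fin d × Fin d => a p.1 p.2) ∪ {b.det})))).2
      (fun y hy => Algebra.subset_adjoin (Or.inl hy)) (hspan h1)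

end Groth.Agent.LinGrp3
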